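import Mathlib.Topology.JacobsonSpace
import Mathlib.Topology.Constructible

/-!
# Closed points of a Jacobson space and constructible sets
-/

universe u
open Topology Set

namespace GrothLib.Jacobson20

variable {X : Type u} [TopologicalSpace X]

/-- `E` is a union of locally closed sets. -/
def IsLCUnion (E : Set X) : Prop :=
  ∀ x ∈ E, ∃ Z, IsLocallyClosed Z ∧ x ∈ Z ∧ Z ⊆ E

theorem isLCUnion_constructible {E : Set X} (hE : IsConstructible E) :
    IsLCUnion E ∧ IsLCUnion Eᶜ := by
  induction hE using IsConstructible.empty_union_induction with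
  | open_retrocompact U hUopen _ =>
    exact ⟨fun x hx => ⟨U, hUopen.isLocallyClosed, hx, subset_rfl⟩,
      fun x hx => ⟨Uᶜ, hUopen.isClosed_compl.isLocallyClosed, hx, subset_rfl⟩⟩
  | union s _ t _ hs' ht' =>
    refine ⟨?_, ?_⟩
    · rintro x (hx | hx)
      · obtain ⟨Z, h1, h2, h3⟩ := hs'.1 x hx
        exact ⟨Z, h1, h2, h3.trans subset_union_left⟩
      · obtain ⟨Z, h1, h2, h3⟩ := ht'.1 x hx
        exact ⟨Z, h1, h2, h3.trans subset_union_right⟩
    · intro x hx
      rw [compl_union] at hx ⊢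
      obtain ⟨Z, h1, h2, h3⟩ := hs'.2 x hx.1
      obtain ⟨W, g1, g2, g3⟩ := ht'.2 x hx.2
      exact ⟨Z ∩ W, h1.inter g1, ⟨h2, g2⟩, inter_subset_inter h3 g3⟩
  | compl s _ hs' => exact ⟨hs'.2, by rw [compl_compl]; exact hs'.1⟩

variable [JacobsonSpace X]

theorem eq_empty_of_isLCUnion {E : Set X} (hE : IsLCUnion E)
    (h : E ∩ closedPoints X = ∅) : E = ∅ := by
  by_contra hne
  obtain ⟨x, hx⟩ := nonempty_iff_ne_empty.2 hne
  obtain ⟨Z, h1, h2, h3⟩ := hE x hx
  obtain ⟨y, hy1, hy2⟩ := nonempty_inter_closedPoints ⟨x, h2⟩ h1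
  exact (h ▸ (notMem_empty y)) ⟨h3 hy1, hy2⟩

local notation "j" => (Subtype.val : closedPoints X → X)

theorem preimage_subset_iff {E E' : Set X} (hE : IsConstructible E) (hE' : IsConstructible E') :
    j ⁻¹' E ⊆ j ⁻¹' E' ↔ E ⊆ E' := by
  refine ⟨fun h => ?_, fun h => preimage_mono h⟩
  rw [← sdiff_eq_empty]
  refine eq_empty_of_isLCUnion (isLCUnion_constructible (hE.sdiff hE')).1 ?_
  ext x
  simp only [mem_inter_iff, mem_sdiff, mem_empty_iff_false, iff_false]
  rintro ⟨⟨h1, h2⟩, h3⟩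
  exact h2 (h (a := ⟨x, h3⟩) h1)

theorem preimage_open_subset_iff {U W : Set X} (hU : IsOpen U) (hW : IsOpen W) :
    j ⁻¹' U ⊆ j ⁻¹' W ↔ U ⊆ W := by
  refine ⟨fun h => ?_, fun h => preimage_mono h⟩
  rw [← sdiff_eq_empty]
  refine eq_empty_of_isLCUnion
    (fun x hx => ⟨U \ W, hU.isLocallyClosed.inter hW.isClosed_compl.isLocallyClosed, hx, subset_rfl⟩) ?_
  ext x
  simp only [mem_inter_iff, mem_sdiff, mem_empty_iff_false, iff_false]
  rintro ⟨⟨h1, h2⟩, h3⟩
  exact h2 (h (a := ⟨x, h3⟩) h1)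

theorem isCompact_iff {U : Set X} (hU : IsOpen U) : IsCompact U ↔ IsCompact (j ⁻¹' U) := by
  rw [isCompact_iff_finite_subcover, isCompact_iff_finite_subcover]
  constructor
  · intro h ι V hV hcov
    choose W hWo hWe using fun i => isOpen_induced_iff.1 (hV i)
    have hsub : U ⊆ ⋃ i, W i := by
      rw [← preimage_open_subset_iff hU (isOpen_iUnion hWo), preimage_iUnion]
      simpa only [hWe] using hcov
    obtain ⟨t, ht⟩ := h W hWo hsub
    refine ⟨t, ?_⟩
    have := preimage_mono (f := j) ht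
    simpa only [preimage_iUnion, hWe] using this
  · intro h ι V hV hcov
    obtain ⟨t, ht⟩ := h (fun i => j ⁻¹' V i) (fun i => (hV i).preimage continuous_subtype_val)
      (by rw [← preimage_iUnion]; exact preimage_mono hcov)
    refine ⟨t, ?_⟩
    exact (preimage_open_subset_iff hU
      (isOpen_iUnion fun i => isOpen_iUnion fun _ => hV i)).1
        (by simpa only [preimage_iUnion] using ht)

theorem isRetrocompact_iff {U : Set X} (hU : IsOpen U) :
    IsRetrocompact U ↔ IsRetrocompact (j ⁻¹' U) := by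
  constructor
  · intro h V hVc hVo
    obtain ⟨W, hWo, rfl⟩ := isOpen_induced_iff.1 hVo
    rw [← preimage_inter, ← isCompact_iff (hU.inter hWo)]
    exact h ((isCompact_iff hWo).2 hVc) hWo
  · intro h V hVc hVo
    rw [isCompact_iff (hU.inter hVo), preimage_inter]
    exact h ((isCompact_iff hVo).1 hVc) (hVo.preimage continuous_subtype_val)

theorem preimage_isConstructible {E : Set X} (hE : IsConstructible E) :
    IsConstructible (j ⁻¹' E) :=
  hE.preimage continuous_subtype_val fun _ ho hr => (isRetrocompact_iff ho).1 hr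

theorem exists_preimage_eq {F : Set (closedPoints X)} (hF : IsConstructible F) :
    ∃ E : Set X, IsConstructible E ∧ j ⁻¹' E = F := by
  induction hF using IsConstructible.empty_union_induction with
  | open_retrocompact V hVo hVr =>
    obtain ⟨W, hWo, rfl⟩ := isOpen_induced_iff.1 hVo
    exact ⟨W, ((isRetrocompact_iff hWo).2 hVr).isConstructible hWo, rfl⟩
  | union s _ t _ hs' ht' =>
    obtain ⟨E, hE, rfl⟩ := hs'
    obtain ⟨E', hE', rfl⟩ := ht'
    exact ⟨E ∪ E', hE.union hE', preimage_union⟩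
  | compl s _ hs' =>
    obtain ⟨E, hE, rfl⟩ := hs'
    exact ⟨Eᶜ, hE.compl, preimage_compl⟩

end GrothLib.Jacobson20
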